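import Groth.Agent.AbSchLib.Main
import Groth.Agent.GrpQuotLib.Descend
import Groth.Agent.GrpQuotLib.KerGrp
import Groth.Agent.GrpSchLib.DeligneScheme

/-!
# The dual isogeny over any base
-/

set_option autoImplicit false
set_option backward.isDefEq.respectTransparency false
set_option backward.defeqAttrib.useBackward true
set_option linter.style.haveILetI false
set_option linter.unusedSectionVars false

universe u

open CategoryTheory CategoryTheory.Limits MonoidalCategory CartesianMonoidalCategory MonObj GrpObj AlgebraicGeometry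

noncomputable section

namespace Groth.Agent.AbSchLib

variable {S : Scheme.{u}} (X Y : Over S) [GrpObj X] [IsProper X.hom] [Flat X.hom] [LocallyOfFinitePresentation X.hom]
  [GeometricallyReduced X.hom] [GeometricallyConnected X.hom]
  [GrpObj Y] [IsProper Y.hom] [Flat Y.hom] [LocallyOfFinitePresentation Y.hom]
  [GeometricallyReduced Y.hom] [GeometricallyConnected Y.hom]
  (f : X ⟶ Y) [IsMonHom f] [IsFinite f.left] [Flat f.left] [Surjective f.left]

theorem pow_eq_of_comp_eq (n : ℕ) (hdeg : ∀ s : S, Scheme.Hom.finrank f.left (η[Y].left s) = n)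
    (T : Over S) (a b : T ⟶ X) (h : a ≫ f = b ≫ f) : a ^ n = b ^ n := by
  haveI : IsCommMonObj X := RigidLib.isCommMonObj_of_geom
  obtain ⟨hN, hfst⟩ := GrpQuotLib.exists_grpObj_kernel f
  letI : GrpObj (pullback f η[Y]) := hN
  haveI := hfst
  haveI : Mono η[Y] := SplitMono.mono ⟨toUnit Y, toUnit_unique _ _⟩
  haveI : Mono (pullback.fst f η[Y]) := inferInstance
  haveI : IsCommMonObj (pullback f η[Y]) := CommGrpAbLib.isComm_of_mono (pullback.fst f η[Y])
  have hsq := GrpQuotLib.isPullback_left (IsPullback.of_hasPullback f η[Y])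
  have e : (pullback f η[Y]).hom = hsq.isoPullback.hom ≫ pullback.snd f.left η[Y].left := by
    rw [hsq.isoPullback_hom_snd, ← Over.w (pullback.snd f η[Y])]
    exact Category.comp_id _
  haveI : LocallyOfFinitePresentation (f.left ≫ Y.hom) := by rw [Over.w f]; infer_instance
  haveI : LocallyOfFinitePresentation f.left := FlatLocus.locallyOfFinitePresentation_of_comp _ Y.hom
  haveI : IsFinite (pullback f η[Y]).hom := by rw [e]; infer_instance
  haveI : Flat (pullback f η[Y]).hom := by rw [e]; infer_instance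
  haveI : LocallyOfFinitePresentation (pullback f η[Y]).hom := by rw [e]; infer_instance
  have hr : ∀ s : S, Scheme.Hom.finrank (pullback f η[Y]).hom s = n := fun s => by
    rw [e, Scheme.Hom.finrank_comp_left_of_isIso, Scheme.Hom.finrank_pullback_snd]
    exact hdeg s
  have h1 : (a * b⁻¹) ≫ f = toUnit T ≫ η[Y] := by
    rw [MonObj.mul_comp, GrpObj.inv_comp, h, mul_inv_cancel, Hom.one_def]
  let z : T ⟶ pullback f η[Y] := pullback.lift (a * b⁻¹) (toUnit T) h1
  have hz := GrpSchLib.pow_eq_one_of_finrank (pullback f η[Y]) n hr T z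
  have h2 := congrArg (· ≫ pullback.fst f η[Y]) hz
  rw [MonObj.pow_comp, MonObj.one_comp, pullback.lift_fst] at h2
  letI : CommGroup (T ⟶ X) := Hom.commGroup
  rw [mul_pow, inv_pow] at h2
  exact mul_inv_eq_one.1 h2

/-- The dual isogeny. -/
theorem existsUnique_dual (n : ℕ) (hn : 1 ≤ n) (hdeg : ∀ s : S, Scheme.Hom.finrank f.left (η[Y].left s) = n) :
    (∃! g : Y ⟶ X, IsMonHom g ∧ f ≫ g = 𝟙 X ^ n) ∧
      ∀ g : Y ⟶ X, IsMonHom g → f ≫ g = 𝟙 X ^ n →
        g ≫ f = 𝟙 Y ^ n ∧ IsFinite g.left ∧ Flat g.left ∧ Surjective g.left := by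
  haveI : SchDesc.IsFpqc f.left := SchDesc.IsFpqc.of_quasiCompact f.left
  haveI : Epi f.left := Flat.epi_of_flat_of_surjective f.left
  have hepi : ∀ {W : Over S} (u v : Y ⟶ W), f ≫ u = f ≫ v → u = v := fun u v h =>
    Over.OverMorphism.ext ((cancel_epi f.left).1 (congrArg Over.Hom.left h))
  obtain ⟨g, hg⟩ := GrpQuotLib.exists_desc f (𝟙 X ^ n : X ⟶ X) (fun T a b h => by
    rw [MonObj.comp_pow, MonObj.comp_pow, Category.comp_id, Category.comp_id]
    exact pow_eq_of_comp_eq X Y f n hdeg T a b h)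
  have hηg : η[Y] ≫ g = η[X] := by
    rw [← IsMonHom.one_hom f, Category.assoc, hg, MonObj.comp_pow, Category.comp_id]
    have h1 : η[X] = (1 : 𝟙_ (Over S) ⟶ X) := by rw [Hom.one_def, toUnit_unit, Category.id_comp]
    rw [h1, one_pow]
  haveI : IsMonHom g := RigidLib.isMonHom_of_one g hηg
  refine ⟨⟨g, ⟨inferInstance, hg⟩, fun g' hg' => hepi _ _ (hg'.2.trans hg.symm)⟩, fun g' hg'm hg' => ?_⟩
  haveI := hg'm
  have hgf : g' ≫ f = 𝟙 Y ^ n := hepi _ _ (by
    rw [← Category.assoc, hg', MonObj.pow_comp, Category.id_comp, MonObj.comp_pow, Category.comp_id])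
  obtain ⟨hY1, -, -⟩ := zpow_spec Y (n : ℤ) (by exact_mod_cast (show n ≠ 0 by omega))
  obtain ⟨-, -, hX3⟩ := zpow_spec X (n : ℤ) (by exact_mod_cast (show n ≠ 0 by omega))
  rw [zpow_natCast] at hY1 hX3
  haveI : IsFinite (g'.left ≫ f.left) := by rw [← Over.comp_left, hgf]; exact hY1
  haveI : IsFinite g'.left := IsFinite.of_comp g'.left f.left
  haveI : Surjective (f.left ≫ g'.left) := by rw [← Over.comp_left, hg']; exact hX3
  haveI : Surjective g'.left := Surjective.of_comp f.left g'.left
  exact ⟨hgf, inferInstance, flat_of_surjective_hom Y X g', inferInstance⟩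

end Groth.Agent.AbSchLib
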