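import Groth.Agent.AVLib.GeomInt
import Groth.Agent.AVLib.Etale
import Groth.Agent.PointBC.Basic
import Groth.Agent.S7795
import Groth.Agent.S7800
import Groth.Agent.EtLocalLib.SchemeLocal
import Mathlib

/-!
# Abelian schemes, fibrewise
-/

set_option autoImplicit false
set_option backward.isDefEq.respectTransparency false
set_option backward.defeqAttrib.useBackward true
set_option linter.style.haveILetI false
set_option linter.unusedSectionVars false

universe u

open CategoryTheory CategoryTheory.Limits MonoidalCategory CartesianMonoidalCategory MonObj GrpObj AlgebraicGeometry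

noncomputable section

namespace Groth.Agent.AbSchLib

variable {S : Scheme.{u}}

/-- The fibre of an `S`-scheme over a point. -/
abbrev fib (s : S) : Over S ⥤ Over (Spec (S.residueField s)) := Over.pullback (S.fromSpecResidueField s)

variable (X Y : Over S) (s : S)

theorem isPullback_map {X Y : Over S} (u : X ⟶ Y) {T : Scheme.{u}} (b : T ⟶ S) :
    IsPullback (pullback.fst X.hom b) ((Over.pullback b).map u).left u.left (pullback.fst Y.hom b) := by
  refine IsPullback.of_bot ?_ (pullback.lift_fst _ _ _).symm (IsPullback.of_hasPullback Y.hom b)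
  rw [show ((Over.pullback b).map u).left ≫ pullback.snd Y.hom b = pullback.snd X.hom b from Over.w _, Over.w u]
  exact IsPullback.of_hasPullback X.hom b

/-- A property of all fibre maps passes to the fibres of the map. -/
theorem prop_fiber_of_fib {X Y : Over S} (u : X ⟶ Y) (P : MorphismProperty Scheme.{u}) [P.IsStableUnderBaseChange]
    (h : ∀ s : S, P ((fib s).map u).left) (y : Y.left) : P (u.left.fiberToSpecResidueField y) := by
  let l : Spec (Y.left.residueField y) ⟶ pullback Y.hom (S.fromSpecResidueField (Y.hom y)) :=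
    pullback.lift (Y.left.fromSpecResidueField y) (Spec.map (Y.hom.residueFieldMap y))
      (Scheme.Hom.SpecMap_residueFieldMap_fromSpecResidueField Y.hom y).symm
  let a : u.left.fiber y ⟶ pullback X.hom (S.fromSpecResidueField (Y.hom y)) :=
    (isPullback_map u (S.fromSpecResidueField (Y.hom y))).lift (u.left.fiberι y) (u.left.fiberToSpecResidueField y ≫ l) (by
      rw [Category.assoc, pullback.lift_fst]
      exact pullback.condition)
  refine MorphismProperty.of_isPullback (P := P) (g := ((fib (Y.hom y)).map u).left) (f := l) (f' := a) ?_ (h _)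
  refine IsPullback.of_right (h₁₂ := pullback.fst X.hom _) (v₁₃ := u.left) (h₂₂ := pullback.fst Y.hom _) ?_
    (IsPullback.lift_snd _ _ _ _) (isPullback_map u _)
  rw [IsPullback.lift_fst, pullback.lift_fst]
  exact IsPullback.of_hasPullback u.left (Y.left.fromSpecResidueField y)

/-- A proper map of `S`-schemes with finite fibre maps is finite. -/
theorem isFinite_of_fib {X Y : Over S} (u : X ⟶ Y) [IsProper u.left] (h : ∀ s : S, IsFinite ((fib s).map u).left) :
    IsFinite u.left := by
  haveI : LocallyQuasiFinite u.left :=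
    locallyQuasiFinite_iff_isFinite_fiber.2 fun y => prop_fiber_of_fib u @IsFinite h y
  exact (IsFinite.iff_isProper_and_locallyQuasiFinite u.left).2 ⟨inferInstance, inferInstance⟩

/-- A map with surjective fibre maps is surjective. -/
theorem surjective_of_fib {X Y : Over S} (u : X ⟶ Y) (h : ∀ s : S, Surjective ((fib s).map u).left) :
    Surjective u.left := ⟨fun y => by
  haveI := prop_fiber_of_fib u @Surjective h y
  obtain ⟨z, -⟩ := (u.left.fiberToSpecResidueField y).surjective (IsLocalRing.closedPoint _)
  exact ⟨u.left.fiberι y z, (Set.ext_iff.1 (u.left.range_fiberι y) _).1 ⟨z, rfl⟩⟩⟩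

/-- A map with unramified fibre maps is unramified. -/
theorem formallyUnramified_of_fib {X Y : Over S} (u : X ⟶ Y) [LocallyOfFiniteType u.left]
    (h : ∀ s : S, FormallyUnramified ((fib s).map u).left) : FormallyUnramified u.left := by
  refine HasRingHomProperty.of_stalkMap (P := @FormallyUnramified) ?_ fun x => ?_
  · exact RingHom.FormallyUnramified.ofLocalizationPrime
  haveI := prop_fiber_of_fib u @FormallyUnramified h (u.left x)
  obtain ⟨z, hz⟩ : x ∈ Set.range (u.left.fiberι (u.left x)) := by rw [Scheme.Hom.range_fiberι]; exact rfl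
  rw [← hz]
  exact (PointBC.formallyUnramified_iff_fibre u.left _ z).2 (FormallyUnramified.stalkMap _ z)

variable [GrpObj X] [IsProper X.hom] [Flat X.hom] [LocallyOfFinitePresentation X.hom] [GeometricallyReduced X.hom]
  [GeometricallyConnected X.hom]

instance isProper_fib : IsProper ((fib s).obj X).hom :=
  MorphismProperty.pullback_snd X.hom (S.fromSpecResidueField s) inferInstance

theorem geometricallyIntegral_fib : GeometricallyIntegral ((fib s).obj X).hom := by
  haveI : Smooth X.hom := S7795.result X
  haveI : Smooth ((fib s).obj X).hom := MorphismProperty.pullback_snd X.hom (S.fromSpecResidueField s) inferInstance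
  haveI : GeometricallyConnected ((fib s).obj X).hom :=
    MorphismProperty.pullback_snd X.hom (S.fromSpecResidueField s) inferInstance
  exact @AVLib.geometricallyIntegral_of_smooth (S.residueField s) _ ((fib s).obj X) inferInstance inferInstance inferInstance

theorem map_zpow_id (n : ℤ) : (fib s).map (𝟙 X ^ n : X ⟶ X) = 𝟙 ((fib s).obj X) ^ n := by
  rw [← (fib s).map_id]
  exact map_zpow (Functor.homMonoidHom (fib s)) (𝟙 X) n

theorem dim_fib (g : S → ℕ) (hg : ∀ s : S, topologicalKrullDim ↥(X.hom.fiber s) = g s) :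
    topologicalKrullDim ((fib s).obj X).left = g s := hg s

theorem fib_zpow_spec (n : ℤ) (hn : n ≠ 0) :
    IsFinite ((fib s).map (𝟙 X ^ n : X ⟶ X)).left ∧ Surjective ((fib s).map (𝟙 X ^ n : X ⟶ X)).left := by
  haveI := geometricallyIntegral_fib X s
  obtain ⟨g, hg⟩ := AVLib.exists_dim (K := S.residueField s) (A := (fib s).obj X)
  obtain ⟨h1, h2, h3⟩ := AVLib.zpow_spec (K := S.residueField s) hg n hn
  rw [map_zpow_id]
  haveI := h1
  haveI : IsIntegral ((fib s).obj X).left := GeometricallyIntegral.isIntegral_of_subsingleton ((fib s).obj X).hom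
  exact ⟨h1, AVLib.surjective_of_finite_endo (S.residueField s) ((fib s).obj X).hom _⟩

theorem isProper_zpow (n : ℤ) : IsProper (𝟙 X ^ n : X ⟶ X).left := by
  haveI : IsProper ((𝟙 X ^ n : X ⟶ X).left ≫ X.hom) := by rw [Over.w]; infer_instance
  exact IsProper.of_comp _ X.hom

theorem zpow_finite_surjective (n : ℤ) (hn : n ≠ 0) :
    IsFinite (𝟙 X ^ n : X ⟶ X).left ∧ Surjective (𝟙 X ^ n : X ⟶ X).left :=
  haveI := isProper_zpow X n
  ⟨isFinite_of_fib _ fun s => (fib_zpow_spec X s n hn).1, surjective_of_fib _ fun s => (fib_zpow_spec X s n hn).2⟩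

theorem flat_of_surjective_hom [GrpObj Y] [IsSeparated Y.hom] [LocallyOfFinitePresentation Y.hom]
    [GeometricallyReduced Y.hom] (f : X ⟶ Y) [IsMonHom f] [Surjective f.left] : Flat f.left :=
  (S7800.result X Y f).1

theorem finrank_zpow_unit (g : S → ℕ) (hg : ∀ s : S, topologicalKrullDim ↥(X.hom.fiber s) = g s) (n : ℤ) (hn : n ≠ 0)
    [Flat (𝟙 X ^ n : X ⟶ X).left] [IsFinite (𝟙 X ^ n : X ⟶ X).left] (s : S) :
    Scheme.Hom.finrank (𝟙 X ^ n : X ⟶ X).left (η[X].left s) = n.natAbs ^ (2 * g s) := by
  haveI := geometricallyIntegral_fib X s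
  have h := isPullback_map (𝟙 X ^ n : X ⟶ X) (S.fromSpecResidueField s)
  let e : Spec (S.residueField s) ⟶ pullback X.hom (S.fromSpecResidueField s) :=
    pullback.lift (S.fromSpecResidueField s ≫ η[X].left) (𝟙 _) (by
      rw [Category.assoc, Category.id_comp]
      exact (congrArg (S.fromSpecResidueField s ≫ ·) (Over.w η[X])).trans (Category.comp_id _))
  obtain ⟨z, hpt⟩ : ∃ z, pullback.fst X.hom (S.fromSpecResidueField s) z = η[X].left s :=
    ⟨e (IsLocalRing.closedPoint (S.residueField s)), by
      rw [← Scheme.Hom.comp_apply, pullback.lift_fst, Scheme.Hom.comp_apply, Scheme.fromSpecResidueField_apply]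
      rfl⟩
  rw [← hpt]
  refine (Scheme.Hom.finrank_of_isPullback _ _ _ _ h z).symm.trans ?_
  have h2 := (AVLib.zpow_spec (K := S.residueField s) (A := (fib s).obj X) (dim_fib X s g hg) n hn).2.2 z
  rw [← h2, map_zpow_id]

theorem formallyUnramified_zpow (n : ℤ) (hn : IsUnit (n : Γ(S, ⊤))) :
    FormallyUnramified (𝟙 X ^ n : X ⟶ X).left := by
  haveI := isProper_zpow X n
  refine formallyUnramified_of_fib _ fun s => ?_
  haveI := geometricallyIntegral_fib X s
  have hs : (n : S.residueField s) ≠ 0 := by
    have := (hn.map ((S.presheaf.germ ⊤ s trivial) ≫ S.residue s).hom)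
    rw [map_intCast] at this
    exact this.ne_zero
  obtain ⟨g, hg⟩ := AVLib.exists_dim (K := S.residueField s) (A := (fib s).obj X)
  rw [map_zpow_id]
  have key : Etale (𝟙 ((fib s).obj X) ^ n.natAbs).left :=
    AVLib.etale_npow (K := S.residueField s) hg _ (by
      rcases Int.natAbs_eq n with e | e <;> rw [e] at hs <;> simpa using hs)
  rcases Int.natAbs_eq n with e | e
  · rw [e, zpow_natCast]; infer_instance
  · have e2 : (𝟙 ((fib s).obj X) : (fib s).obj X ⟶ (fib s).obj X) ^ n =
        (𝟙 ((fib s).obj X))⁻¹ ≫ 𝟙 ((fib s).obj X) ^ n.natAbs := by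
      rw [MonObj.comp_pow, Category.comp_id, inv_pow]
      conv_lhs => rw [e, zpow_neg, zpow_natCast]
    rw [e2, Over.comp_left]
    haveI : IsIso ((𝟙 ((fib s).obj X))⁻¹ : (fib s).obj X ⟶ (fib s).obj X) := by
      rw [Hom.inv_def, Category.id_comp]; infer_instance
    haveI : IsIso ((𝟙 ((fib s).obj X))⁻¹ : (fib s).obj X ⟶ (fib s).obj X).left :=
      inferInstanceAs (IsIso ((Over.forget _).map ((𝟙 ((fib s).obj X))⁻¹ : (fib s).obj X ⟶ (fib s).obj X)))
    infer_instance

end Groth.Agent.AbSchLib
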