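import Groth.Agent.AbSchLib.Fibre
import Groth.Agent.AVLib.Isog

/-!
# Homomorphisms of abelian schemes of equal dimension
-/

set_option autoImplicit false
set_option backward.isDefEq.respectTransparency false
set_option linter.style.haveILetI false

universe u

open CategoryTheory CategoryTheory.Limits MonoidalCategory CartesianMonoidalCategory MonObj GrpObj AlgebraicGeometry

noncomputable section

namespace Groth.Agent.AbSchLib

/-- Quasi-finite is surjective for homomorphisms of abelian schemes of equal dimension. -/
theorem locallyQuasiFinite_iff_surjective {S : Scheme.{u}} (A B : Over S)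
    [GrpObj A] [Smooth A.hom] [IsProper A.hom] [GeometricallyConnected A.hom]
    [GrpObj B] [Smooth B.hom] [IsProper B.hom] [GeometricallyConnected B.hom]
    (f : A ⟶ B) [IsMonHom f]
    (hdim : ∀ s : S, topologicalKrullDim ↥(A.hom.fiber s) = topologicalKrullDim ↥(B.hom.fiber s)) :
    LocallyQuasiFinite f.left ↔ Surjective f.left := by
  haveI := AVLib.geometricallyReduced_of_smooth A.hom
  haveI := AVLib.geometricallyReduced_of_smooth B.hom
  haveI : IsProper f.left := by
    haveI : IsProper (f.left ≫ B.hom) := by rw [Over.w f]; infer_instance
    exact IsProper.of_comp f.left B.hom
  constructor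
  · intro hf
    refine surjective_of_fib f fun s => ?_
    haveI := geometricallyIntegral_fib A s
    haveI := geometricallyIntegral_fib B s
    have h := isPullback_map f (S.fromSpecResidueField s)
    haveI : IsProper ((fib s).map f).left := MorphismProperty.of_isPullback h ‹IsProper f.left›
    haveI : LocallyQuasiFinite ((fib s).map f).left := MorphismProperty.of_isPullback h hf
    haveI : IsFinite ((fib s).map f).left := IsFinite.of_isProper_of_locallyQuasiFinite _
    exact AVLib.surjective_of_isFinite ((fib s).map f) (hdim s)
  · intro hf
    haveI : IsFinite f.left := isFinite_of_fib f fun s => by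
      haveI := geometricallyIntegral_fib A s
      haveI := geometricallyIntegral_fib B s
      haveI : Surjective ((fib s).map f).left :=
        MorphismProperty.of_isPullback (isPullback_map f (S.fromSpecResidueField s)) hf
      exact (AVLib.isFinite_flat_of_surjective ((fib s).map f) (hdim s)).1
    infer_instance

end Groth.Agent.AbSchLib
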