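import Groth.Agent.AbSchLib.Fibre
import Groth.Agent.AVLib.Isog
import Groth.Agent.FlatLocus.FibreCrit
import Groth.Agent.RigidLib.Group
import Groth.Agent.CommGrpAbLib.Basic

/-!
# Multiplication on abelian schemes
-/

set_option autoImplicit false
set_option backward.isDefEq.respectTransparency false
set_option backward.defeqAttrib.useBackward true
set_option linter.style.haveILetI false
set_option linter.unusedSectionVars false

universe u

open CategoryTheory CategoryTheory.Limits MonoidalCategory CartesianMonoidalCategory MonObj GrpObj AlgebraicGeometry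

noncomputable section

namespace Groth.Agent.AbSchLib

variable {S : Scheme.{u}} (X : Over S) [GrpObj X] [IsProper X.hom] [Flat X.hom] [LocallyOfFinitePresentation X.hom]
  [GeometricallyReduced X.hom] [GeometricallyConnected X.hom]

theorem isMonHom_zpow (n : ℤ) : IsMonHom (𝟙 X ^ n : X ⟶ X) := by
  haveI : IsCommMonObj X := RigidLib.isCommMonObj_of_geom
  have h : (𝟙 X : X ⟶ X) ∈ CommGrpAbLib.homSub (X := X) (Y := X) := (inferInstance : IsMonHom (𝟙 X))
  exact Subgroup.zpow_mem _ h n

theorem zpow_spec (n : ℤ) (hn : n ≠ 0) :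
    IsFinite (𝟙 X ^ n : X ⟶ X).left ∧ Flat (𝟙 X ^ n : X ⟶ X).left ∧ Surjective (𝟙 X ^ n : X ⟶ X).left := by
  obtain ⟨h1, h2⟩ := zpow_finite_surjective X n hn
  haveI := isMonHom_zpow X n
  haveI := h2
  exact ⟨h1, flat_of_surjective_hom X X _, h2⟩

theorem etale_zpow (n : ℤ) (hn : IsUnit (n : Γ(S, ⊤))) :
    IsFinite (𝟙 X ^ n : X ⟶ X).left ∧ Etale (𝟙 X ^ n : X ⟶ X).left := by
  by_cases h0 : n = 0
  · subst h0
    rw [Int.cast_zero, isUnit_zero_iff] at hn
    haveI : IsEmpty X.left := by
      refine ⟨fun x => ?_⟩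
      have := congrArg (S.presheaf.germ ⊤ (X.hom x) trivial ≫ S.residue (X.hom x)).hom hn
      rw [map_zero, map_one] at this
      exact zero_ne_one this
    refine ⟨inferInstance, inferInstance⟩
  obtain ⟨h1, h2, h3⟩ := zpow_spec X n h0
  haveI := h1
  haveI := h2
  haveI := isProper_zpow X n
  haveI := formallyUnramified_zpow X n hn
  haveI : LocallyOfFinitePresentation ((𝟙 X ^ n : X ⟶ X).left ≫ X.hom) := by rw [Over.w]; infer_instance
  haveI : LocallyOfFinitePresentation (𝟙 X ^ n : X ⟶ X).left := FlatLocus.locallyOfFinitePresentation_of_comp _ X.hom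
  exact ⟨h1, Etale.of_formallyUnramified_of_flat _⟩

theorem dim_eq {Y : Over S} [GrpObj Y] [IsProper Y.hom] [Flat Y.hom] [LocallyOfFinitePresentation Y.hom]
    [GeometricallyReduced Y.hom] [GeometricallyConnected Y.hom] (f : X ⟶ Y) [IsMonHom f] [IsFinite f.left]
    [Surjective f.left] (s : S) : topologicalKrullDim ↥(X.hom.fiber s) = topologicalKrullDim ↥(Y.hom.fiber s) := by
  haveI := geometricallyIntegral_fib X s
  haveI := geometricallyIntegral_fib Y s
  have hsq := (isPullback_map f (S.fromSpecResidueField s))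
  haveI : IsFinite ((fib s).map f).left := MorphismProperty.of_isPullback (P := @IsFinite) hsq inferInstance
  haveI : Surjective ((fib s).map f).left := MorphismProperty.of_isPullback (P := @Surjective) hsq inferInstance
  exact AVLib.dim_eq_of_isFinite_surjective (K := S.residueField s) ((fib s).map f)

end Groth.Agent.AbSchLib
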